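import Mathlib.LinearAlgebra.Matrix.NonsingularInverse
import Mathlib.RingTheory.TensorProduct.Maps
import Mathlib.RingTheory.Localization.Integer
import Mathlib.RingTheory.Localization.Basic
import Mathlib.Tactic.LinearCombination
import Mathlib.Tactic.Ring

/-!
Descent of a congruence between two matrices along a localization `T → S⁻¹T`, inside `- ⊗[B] A`
with an involution acting on the second factor.
-/

universe u v w

open scoped TensorProduct

namespace Groth.Agent.H23RInvSpread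

/-- `(lam v)ᵀ h v = h'` with invertible `v`, over `C ⊗[B] A`. -/
def Congr {B : Type u} {A : Type v} [CommRing B] [CommRing A] [Algebra B A] (lam : A ≃ₐ[B] A)
    {n : ℕ} (h h' : Matrix (Fin n) (Fin n) A) (C : Type w) [CommRing C] [Algebra B C] : Prop :=
  ∃ v : Matrix (Fin n) (Fin n) (C ⊗[B] A), IsUnit v ∧
    (v.map (Algebra.TensorProduct.congr (AlgEquiv.refl : C ≃ₐ[C] C) lam)).transpose *
      h.map (Algebra.TensorProduct.includeRight : A →ₐ[B] C ⊗[B] A) * v =
      h'.map (Algebra.TensorProduct.includeRight : A →ₐ[B] C ⊗[B] A)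

variable {B : Type u} {A : Type v} [CommRing B] [CommRing A] [Algebra B A] (lam : A ≃ₐ[B] A)
  {n : ℕ} (h h' : Matrix (Fin n) (Fin n) A)

theorem map_smul_matrix {R R' : Type*} [CommRing R] [CommRing R'] (f : R →+* R') (r : R)
    (M : Matrix (Fin n) (Fin n) R) : (r • M).map f = f r • M.map f := by
  ext a b
  simp

theorem exists_congr_of_localization {T : Type u} [CommRing T] [Algebra B T] (S : Submonoid T)
    {Cp : Type u} [CommRing Cp] [Algebra B Cp] (g : Cp →ₐ[B] Localization S)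
    (hc : Congr lam h h' Cp) :
    ∃ σ ∈ S, ∀ (C : Type u) [CommRing C] [Algebra B C] (χ : T →ₐ[B] C), IsUnit (χ σ) →
      Congr lam h h' C := by
  classical
  obtain ⟨v, hv, heq⟩ := hc
  let inl : T →+* T ⊗[B] A := Algebra.TensorProduct.includeLeftRingHom
  let inr : A →+* T ⊗[B] A :=
    (Algebra.TensorProduct.includeRight : A →ₐ[B] T ⊗[B] A).toRingHom
  let S2 : Submonoid (T ⊗[B] A) := S.map inl
  let R := Localization S2
  let ι : T ⊗[B] A →+* R := algebraMap _ R
  let f : T →ₐ[B] R := (IsScalarTower.toAlgHom B (T ⊗[B] A) R).comp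
      (Algebra.TensorProduct.includeLeft (S := B))
  have hS : ∀ y : S, IsUnit (f y) := fun y =>
    IsLocalization.map_units R (⟨_, Submonoid.mem_map_of_mem inl y.2⟩ : S2)
  let j : Localization S →ₐ[B] R := IsLocalization.liftAlgHom (M := S) (f := f) hS
  let ψ : Cp ⊗[B] A →ₐ[B] R := Algebra.TensorProduct.lift (j.comp g)
    ((IsScalarTower.toAlgHom B (T ⊗[B] A) R).comp Algebra.TensorProduct.includeRight)
    fun _ _ => Commute.all _ _
  let LT : T ⊗[B] A →+* T ⊗[B] A :=
    (Algebra.TensorProduct.congr (AlgEquiv.refl : T ≃ₐ[T] T) lam).toAlgHom.toRingHom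
  have hLl : ∀ t, LT (inl t) = inl t := fun t => by simp [LT, inl]
  have hLS : S2 ≤ Submonoid.comap LT S2 := by
    rintro _ ⟨y, hy, rfl⟩
    exact ⟨y, hy, (hLl y).symm⟩
  let L : R →+* R := IsLocalization.map R LT hLS
  have hLι : ∀ x, L (ι x) = ι (LT x) := fun x => IsLocalization.map_eq hLS x
  have hLj : ∀ x, L (j x) = j x := fun x => by
    refine RingHom.congr_fun (f := L.comp j.toRingHom) (g := j.toRingHom) ?_ x
    refine IsLocalization.ringHom_ext S (RingHom.ext fun t => ?_)
    have hj : j (algebraMap T _ t) = ι (inl t) := IsLocalization.lift_eq hS t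
    change L (j _) = j _
    rw [hj, hLι, hLl]
  have hψL : ∀ x, ψ (Algebra.TensorProduct.congr (AlgEquiv.refl : Cp ≃ₐ[Cp] Cp) lam x) = L (ψ x) := by
    intro x
    induction x using TensorProduct.induction_on with
    | zero => simp
    | tmul c a =>
      simp only [Algebra.TensorProduct.congr_apply, Algebra.TensorProduct.map_tmul,
        AlgEquiv.refl_toAlgHom, AlgHom.coe_id, id_eq, AlgEquiv.toAlgHom_apply,
        AlgEquiv.coe_toAlgHom, ψ, Algebra.TensorProduct.lift_tmul, AlgHom.comp_apply,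
        IsScalarTower.coe_toAlgHom', Algebra.TensorProduct.includeRight_apply, map_mul, hLj]
      rw [show L (algebraMap (T ⊗[B] A) R (1 ⊗ₜ a)) = algebraMap (T ⊗[B] A) R (1 ⊗ₜ lam a) from
        (hLι _).trans (congrArg ι (by simp [LT]))]
    | add x y hx hy => simp only [map_add, hx, hy]
  have hψr : ∀ a, ψ ((Algebra.TensorProduct.includeRight : A →ₐ[B] Cp ⊗[B] A) a) = ι (inr a) :=
    fun a => by simp [ψ, ι, inr]
  -- the image of `v` and its inverse
  obtain ⟨w, hw⟩ := hv.exists_right_inv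
  let x := v.map ψ
  let y := w.map ψ
  have hxy : x * y = 1 := by
    rw [← Matrix.map_mul, hw, Matrix.map_one _ (map_zero ψ) (map_one ψ)]
  have hxe : (x.map L).transpose * (h.map inr).map ι * x = (h'.map inr).map ι := by
    have := congrArg (fun m => m.map ψ) heq
    simp only [Matrix.map_mul, Matrix.transpose_map] at this
    have e1 : ((v.map (Algebra.TensorProduct.congr (AlgEquiv.refl : Cp ≃ₐ[Cp] Cp) lam))).map ψ
        = x.map L := by
      ext a b; exact hψL _
    have e2 : ∀ m : Matrix (Fin n) (Fin n) A,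
        (m.map (Algebra.TensorProduct.includeRight : A →ₐ[B] Cp ⊗[B] A)).map ψ
          = (m.map inr).map ι := fun m => by ext a b; exact hψr _
    rw [e1, e2, e2] at this
    exact this
  -- clear denominators
  obtain ⟨⟨_, σ₁, hσ₁, rfl⟩, hc⟩ := IsLocalization.exist_integer_multiples_of_finite S2
    (Sum.elim (fun e : Fin n × Fin n => x e.1 e.2) (fun e : Fin n × Fin n => y e.1 e.2))
  choose V₀ hV₀ using hc
  let V : Matrix (Fin n) (Fin n) (T ⊗[B] A) := Matrix.of fun a b => V₀ (Sum.inl (a, b))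
  let W : Matrix (Fin n) (Fin n) (T ⊗[B] A) := Matrix.of fun a b => V₀ (Sum.inr (a, b))
  let c : R := ι (inl σ₁)
  have hV : V.map ι = c • x := by
    ext a b
    simpa [V, c, Algebra.smul_def, ι] using hV₀ (Sum.inl (a, b))
  have hW : W.map ι = c • y := by
    ext a b
    simpa [W, c, Algebra.smul_def, ι] using hV₀ (Sum.inr (a, b))
  have hLc : L c = c := (hLι _).trans (congrArg ι (hLl σ₁))
  have hVL : (V.map LT).map ι = c • x.map L := by
    have h1 : (V.map LT).map ι = (V.map ι).map L := by ext a b; exact (hLι _).symm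
    rw [h1, hV]
    ext a b
    simp [hLc]
  have hE : ((V.map LT).transpose * h.map inr * V).map ι =
      ((inl σ₁ * inl σ₁) • h'.map inr).map ι := by
    rw [Matrix.map_mul, Matrix.map_mul, Matrix.transpose_map, hVL, hV, Matrix.transpose_smul,
      Matrix.smul_mul, Matrix.smul_mul, Matrix.mul_smul, smul_smul, hxe,
      map_smul_matrix ι, map_mul]
  have hF : (V * W).map ι = ((inl σ₁ * inl σ₁) • (1 : Matrix (Fin n) (Fin n) (T ⊗[B] A))).map ι := by
    rw [Matrix.map_mul, hV, hW, Matrix.smul_mul, Matrix.mul_smul, smul_smul, hxy,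
      map_smul_matrix ι, map_mul, Matrix.map_one _ (map_zero ι) (map_one ι)]
  choose t ht using fun e : Fin n × Fin n =>
    IsLocalization.exists_of_eq (M := S2) (S := R) (congrFun (congrFun hE e.1) e.2)
  choose t' ht' using fun e : Fin n × Fin n =>
    IsLocalization.exists_of_eq (M := S2) (S := R) (congrFun (congrFun hF e.1) e.2)
  obtain ⟨σ₂, hσ₂, e₂⟩ := ((∏ e, t e) * (∏ e, t' e) : S2).2
  refine ⟨σ₁ * σ₂, mul_mem hσ₁ hσ₂, fun C _ _ χ hχ => ?_⟩
  rw [map_mul, IsUnit.mul_iff] at hχ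
  let φA : T ⊗[B] A →ₐ[B] C ⊗[B] A := Algebra.TensorProduct.map χ (AlgHom.id B A)
  let φ : T ⊗[B] A →+* C ⊗[B] A := φA.toRingHom
  let L' : C ⊗[B] A →+* C ⊗[B] A :=
    (Algebra.TensorProduct.congr (AlgEquiv.refl : C ≃ₐ[C] C) lam).toAlgHom.toRingHom
  have hu : IsUnit (φ (((∏ e, t e) * (∏ e, t' e) : S2) : T ⊗[B] A)) := by
    rw [← e₂]
    simpa [φ, φA, inl] using
      hχ.2.map (Algebra.TensorProduct.includeLeftRingHom : C →+* C ⊗[B] A)
  have hu' := hu
  rw [Submonoid.coe_mul, map_mul, IsUnit.mul_iff, Submonoid.coe_finsetProd,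
    Submonoid.coe_finsetProd, map_prod, map_prod, IsUnit.prod_iff, IsUnit.prod_iff] at hu'
  have hE' : ((V.map LT).transpose * h.map inr * V).map φ =
      ((inl σ₁ * inl σ₁) • h'.map inr).map φ := by
    ext a b
    refine (hu'.1 (a, b) (Finset.mem_univ _)).mul_left_cancel ?_
    rw [Matrix.map_apply, Matrix.map_apply, ← map_mul φ, ← map_mul φ]
    exact congrArg φ (ht (a, b))
  have hF' : (V * W).map φ =
      ((inl σ₁ * inl σ₁) • (1 : Matrix (Fin n) (Fin n) (T ⊗[B] A))).map φ := by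
    ext a b
    refine (hu'.2 (a, b) (Finset.mem_univ _)).mul_left_cancel ?_
    rw [Matrix.map_apply, Matrix.map_apply, ← map_mul φ, ← map_mul φ]
    exact congrArg φ (ht' (a, b))
  obtain ⟨u, hu1⟩ :=
    (hχ.1.map (Algebra.TensorProduct.includeLeftRingHom : C →+* C ⊗[B] A))
  have hφl : φ (inl σ₁) = u := by rw [hu1]; simp [φ, φA, inl]
  have hLu : L' (↑u⁻¹ : C ⊗[B] A) = ↑u⁻¹ := by
    have : L' (u : C ⊗[B] A) = u := by rw [hu1]; simp [L']
    refine u.isUnit.mul_left_cancel ?_
    conv_lhs => rw [← this]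
    rw [← map_mul, Units.mul_inv, map_one]
  have hφr : ∀ a, φ (inr a) = (Algebra.TensorProduct.includeRight : A →ₐ[B] C ⊗[B] A) a :=
    fun a => by simp [φ, φA, inr]
  have hφL : ∀ z, φ (LT z) = L' (φ z) := by
    intro z
    induction z using TensorProduct.induction_on with
    | zero => simp
    | tmul c a => simp [φ, φA, LT, L']
    | add a b ha hb => simp only [map_add, ha, hb]
  have hh : ∀ m : Matrix (Fin n) (Fin n) A, (m.map inr).map φ =
      m.map (Algebra.TensorProduct.includeRight : A →ₐ[B] C ⊗[B] A) := fun m => by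
    ext a b; exact hφr _
  refine ⟨(↑u⁻¹ : C ⊗[B] A) • V.map φ, ?_, ?_⟩
  · refine IsUnit.of_mul_eq_one ((↑u⁻¹ : C ⊗[B] A) • W.map φ) ?_
    rw [Matrix.smul_mul, Matrix.mul_smul, smul_smul, ← Matrix.map_mul, hF',
      map_smul_matrix φ, Matrix.map_one _ (map_zero φ) (map_one φ), map_mul, hφl,
      smul_smul, show (↑u⁻¹ : C ⊗[B] A) * ↑u⁻¹ * (↑u * ↑u) = 1 by
        linear_combination (↑u⁻¹ * (u : C ⊗[B] A) + 1) * u.inv_mul, one_smul]
  · change (Matrix.map _ L').transpose * _ * _ = _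
    have h1 : ((↑u⁻¹ : C ⊗[B] A) • V.map φ).map L' = (↑u⁻¹ : C ⊗[B] A) • (V.map LT).map φ := by
      ext a b
      simp [hLu, hφL]
    rw [h1, ← hh h, ← hh h', Matrix.transpose_smul, Matrix.smul_mul, Matrix.smul_mul,
      Matrix.mul_smul, smul_smul, ← Matrix.transpose_map, ← Matrix.map_mul, ← Matrix.map_mul, hE',
      map_smul_matrix φ, map_mul, hφl, smul_smul,
      show (↑u⁻¹ : C ⊗[B] A) * ↑u⁻¹ * (↑u * ↑u) = 1 by
        linear_combination (↑u⁻¹ * (u : C ⊗[B] A) + 1) * u.inv_mul, one_smul]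

end Groth.Agent.H23RInvSpread
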